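import Cfsg.Agent.BlocksB.Cyclic.PrimeOrder
import Cfsg.Agent.Blocks.Congr
import Cfsg.Agent.Blocks.Regular
import Mathlib.GroupTheory.Transfer

/-!
# The order of a simple group with a Sylow subgroup of order `p`
-/

set_option autoImplicit false
set_option linter.style.haveILetI false

namespace CfsgLib.PClosedBound

open Cfsg CfsgLib.Block CfsgLib.Block.Chr CfsgLib.Cyclic CfsgLib.BrauerPairs

universe u

variable {G : Type u} [Group G]

/-- A linear irreducible character of a perfect group is trivial. -/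
theorem eq_one_of_apply_one (hperf : commutator G = ⊤) {χ : G → ℂ} (hχ : IsIrrCharacter G χ)
    (h1 : χ 1 = 1) : χ = fun _ => 1 := by
  obtain ⟨n, ρ, -, rfl⟩ := hχ
  rw [ρ.char_one, Module.finrank_fin_fun, Nat.cast_eq_one] at h1
  subst h1
  have hcomm : ∀ a b : Module.End ℂ (Fin 1 → ℂ), a * b = b * a := fun a b => by
    refine LinearMap.toMatrix'.injective ?_
    rw [LinearMap.toMatrix'_mul, LinearMap.toMatrix'_mul]
    ext i j
    rw [Subsingleton.elim i 0, Subsingleton.elim j 0]
    simp [Matrix.mul_apply, mul_comm]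
  let f : G →* (Module.End ℂ (Fin 1 → ℂ))ˣ := ρ.toHomUnits
  have hker : commutator G ≤ f.ker := by
    rw [commutator_def, Subgroup.commutator_le]
    intro a _ b _
    rw [MonoidHom.mem_ker, map_commutatorElement, commutatorElement_eq_one_iff_mul_comm]
    exact Units.ext (hcomm _ _)
  funext g
  have hg : f g = 1 := MonoidHom.mem_ker.1 (hker (hperf ▸ Subgroup.mem_top g))
  change LinearMap.trace ℂ _ ((f g : (Module.End ℂ (Fin 1 → ℂ))ˣ) : Module.End ℂ (Fin 1 → ℂ)) = 1
  rw [hg, Units.val_one, LinearMap.trace_one, Module.finrank_fin_fun, Nat.cast_one]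

/-- The arithmetic: no small order is possible. -/
theorem arith {p c e k d : ℕ} {s : ℤ} (he : 2 ≤ e) (hc : 1 ≤ c) (hk : 1 ≤ k)
    (hsmall : 2 * (c * e * (1 + k * p)) < p ^ 2 - 1) (hd : d ∣ c * e * (1 + k * p))
    (hd2 : 2 ≤ d) (hs : s = 1 ∨ s = -1) (hcong : (d : ℤ) ≡ s [ZMOD p]) :
    s = 1 ∧ d = 1 + k * p := by
  obtain ⟨r, hr⟩ := hd
  have hr0 : 1 ≤ r := by
    rcases Nat.eq_zero_or_pos r with h | h
    · subst h; simp only [mul_zero] at hr; exact absurd hr (by positivity)
    · exact h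
  have hp2 : 4 < p ^ 2 := by
    have : 4 ≤ 2 * (c * e * (1 + k * p)) := by
      have : 2 ≤ c * e * (1 + k * p) := le_mul_of_le_of_one_le (le_mul_of_one_le_of_le hc he) (by omega)
      omega
    omega
  have hpp : p ^ 2 - 1 + 1 = p ^ 2 := Nat.sub_add_cancel (by omega)
  have hce : 2 * (c * e) + 1 < p := by
    have h1 : c * e * (1 + p) ≤ c * e * (1 + k * p) := Nat.mul_le_mul_left _ (by nlinarith)
    by_contra h
    nlinarith
  have hdp : p ≤ d + 1 := by
    by_contra h
    rcases hs with rfl | rfl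
    · have h1 : (p : ℤ) ∣ (d : ℤ) - 1 := Int.modEq_iff_dvd.1 hcong.symm
      have := Int.le_of_dvd (by omega) h1
      omega
    · have h1 : (p : ℤ) ∣ (d : ℤ) + 1 := by simpa using Int.modEq_iff_dvd.1 hcong.symm
      have := Int.le_of_dvd (by omega) h1
      omega
  have hrp : 2 * r ≤ p + 1 := by
    by_contra h
    nlinarith [Nat.mul_le_mul hdp (show p + 2 ≤ 2 * r by omega)]
  have h3 : ((c * e : ℕ) : ℤ) ≡ s * r [ZMOD p] := by
    have h4 : ((c * e * (1 + k * p) : ℕ) : ℤ) ≡ s * r [ZMOD p] := by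
      rw [hr]; push_cast; exact hcong.mul_right _
    refine Int.ModEq.trans ?_ h4
    refine Int.modEq_iff_dvd.2 ⟨(c * e * k : ℕ), by push_cast; ring⟩
  have hlt : c * e + r < p := by omega
  rcases hs with rfl | rfl
  · refine ⟨rfl, ?_⟩
    rw [one_mul] at h3
    have h5 : c * e % p = r % p := Int.natCast_modEq_iff.1 h3
    rw [Nat.mod_eq_of_lt (by omega), Nat.mod_eq_of_lt (by omega)] at h5
    rw [h5, mul_comm r] at hr
    exact (Nat.eq_of_mul_eq_mul_right hr0 hr).symm
  · exfalso
    have h5 : (p : ℤ) ∣ ((c * e + r : ℕ) : ℤ) := by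
      have := (Int.modEq_iff_dvd.1 h3.symm)
      push_cast at this ⊢
      simpa using this
    have := Nat.le_of_dvd (by omega) (Int.natCast_dvd_natCast.1 h5)
    omega

/-- A simple group with a Sylow `p`-subgroup of order `p` has order at least `p (p² - 1) / 2`. -/
theorem le_card_of_isSimpleGroup [Finite G] [IsSimpleGroup G] {p : ℕ} [Fact p.Prime] (S : Sylow p G)
    (hS : Nat.card S = p) (hnn : ¬ (S : Subgroup G).Normal) :
    p * (p ^ 2 - 1) / 2 ≤ Nat.card G := by
  classical
  have hp : p.Prime := Fact.out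
  haveI := Fintype.ofFinite G
  set P : Subgroup G := (S : Subgroup G) with hPdef
  set N := Subgroup.normalizer (P : Set G) with hN
  set C := Subgroup.centralizer (P : Set G) with hC
  have hP : Nat.card P = p := hS
  have hPC : P ≤ C := fun x hx => by
    haveI : IsCyclic P := isCyclic_of_prime_card hP
    exact Subgroup.mem_centralizer_iff.2 fun y hy =>
      congrArg Subtype.val (mul_comm' (⟨y, hy⟩ : P) ⟨x, hx⟩)
  have hCN : C ≤ N := Subgroup.centralizer_le_normalizer _
  obtain ⟨c, hc⟩ := Subgroup.card_dvd_of_le hPC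
  set e := C.relIndex N with he
  have hNcard : Nat.card C * e = Nat.card N := by
    rw [he, Subgroup.relIndex, ← Nat.card_congr (Subgroup.subgroupOfEquivOfLe hCN).toEquiv,
      Subgroup.card_mul_index]
  have hperf : commutator G = ⊤ := by
    rcases IsSimpleGroup.eq_bot_or_eq_top_of_normal (commutator G) inferInstance with h | h
    · refine absurd ⟨fun x hx g => ?_⟩ hnn
      have h1 : g * x * g⁻¹ * x⁻¹ = 1 := by
        have h2 : g * x * g⁻¹ * x⁻¹ ∈ commutator G := by
          rw [← commutatorElement_def, commutator_def]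
          exact Subgroup.commutator_mem_commutator (Subgroup.mem_top g) (Subgroup.mem_top x)
        rwa [h, Subgroup.mem_bot] at h2
      rw [mul_inv_eq_one.1 h1]; exact hx
    · exact h
  have hdvd : p ∣ Nat.card G := hP ▸ Subgroup.card_subgroup_dvd_card P
  have hc0 : 1 ≤ c := by
    rcases Nat.eq_zero_or_pos c with h | h
    · rw [h, mul_zero] at hc; exact absurd hc Nat.card_pos.ne'
    · exact h
  have he2 : 2 ≤ e := by
    have he0 : e ≠ 0 := Subgroup.index_ne_zero_of_finite
    by_contra hlt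
    have hle : N ≤ C := Subgroup.relIndex_eq_one.1 (by omega : C.relIndex N = 1)
    rcases IsSimpleGroup.eq_bot_or_eq_top_of_normal (MonoidHom.transferSylow S hle).ker inferInstance with
      h | h
    · have hcomp := MonoidHom.ker_transferSylow_isComplement' S hle
      have h2 := hcomp.card_mul
      rw [h, Subgroup.card_bot, one_mul] at h2
      exact hnn (by rw [hPdef, Subgroup.eq_top_of_card_eq _ h2]; infer_instance)
    · have hcomp := MonoidHom.ker_transferSylow_isComplement' S hle
      have h2 := hcomp.disjoint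
      rw [h] at h2
      have hbot : P = ⊥ := top_disjoint.1 h2
      rw [hbot, Subgroup.card_bot] at hP
      exact hp.ne_one hP.symm
  obtain ⟨k, hk0, hk⟩ : ∃ k, 1 ≤ k ∧ Nat.card (Sylow p G) = 1 + k * p := by
    have h1 := card_sylow_modEq_one p G
    have h2 : Nat.card (Sylow p G) ≠ 1 := fun h => hnn (by
      haveI : Subsingleton (Sylow p G) := (Nat.card_eq_one_iff_unique.1 h).1
      exact Sylow.normal_of_subsingleton S)
    have h3 : 1 ≤ Nat.card (Sylow p G) := Nat.card_pos
    obtain ⟨k, hk⟩ := (Nat.modEq_iff_dvd' h3).1 h1.symm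
    refine ⟨k, ?_, by rw [mul_comm]; omega⟩
    rcases Nat.eq_zero_or_pos k with h | h
    · rw [h, mul_zero] at hk; omega
    · exact h
  have hG : Nat.card G = p * (c * e * (1 + k * p)) := by
    rw [← Subgroup.card_mul_index N, ← hNcard, ← hk, Sylow.card_eq_index_normalizer S, hc, hP]
    change p * c * e * N.index = p * (c * e * N.index)
    ring
  by_contra hlt
  push Not at hlt
  have hsmall : 2 * (c * e * (1 + k * p)) < p ^ 2 - 1 := by
    by_contra h
    push Not at h
    have h1 : p * (p ^ 2 - 1) / 2 ≤ p * (c * e * (1 + k * p)) := by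
      refine (Nat.div_le_iff_le_mul_add_pred two_pos).2 ?_
      nlinarith [Nat.mul_le_mul_left p h]
    omega
  obtain ⟨M, hM⟩ := exists_isPModular hp
  haveI := hM.2.1.isPrime
  haveI := CfsgLib.Block.charP_residue hM
  letI := CfsgLib.Block.Chr.irrFintype (G := G)
  haveI : Fintype (principalBlock M G) := Fintype.ofFinite _
  obtain ⟨X, εX, ε, hX, hY, hXv, hε, hYc, hYeq, hYrel⟩ := principal_prime_order hM S hS he.symm
  set one : principalBlock M G := ⟨trivIrr G, trivIrr_mem_principal⟩ with hone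
  have h1deg : ∀ θ : principalBlock M G, deg θ.1 = 1 → θ = one := fun θ h => by
    refine Subtype.ext (Subtype.ext ?_)
    refine eq_one_of_apply_one hperf θ.1.2 ?_
    rw [(irr_one θ.1).1]
    exact_mod_cast h
  have hep : 2 * e + 1 < p := by
    have h1 : e * (1 + p) ≤ c * e * (1 + k * p) :=
      Nat.mul_le_mul (Nat.le_mul_of_pos_left e hc0) (by nlinarith)
    have hpp : p ^ 2 - 1 + 1 = p ^ 2 := Nat.sub_add_cancel (by have := hp.two_le; nlinarith)
    by_contra h
    nlinarith
  have honeX : one ∈ X := by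
    by_contra h
    have hall : ∀ θ, θ ∉ X → θ = one := fun θ hθ => h1deg θ (by
      have h2 := hYeq θ one hθ h 1 (by rw [orderOf_one]; exact hp.not_dvd_one)
      rw [(irr_one θ.1).1, show ((one : IrrCharacter G) : G → ℂ) 1 = 1 from rfl] at h2
      change (charDegree ((θ : IrrCharacter G) : G → ℂ) : ℤ) = 1
      exact_mod_cast h2)
    have h2 : (Xᶜ).card ≤ 1 := Finset.card_le_one.2 fun a ha b hb =>
      (hall a (Finset.mem_compl.1 ha)).trans (hall b (Finset.mem_compl.1 hb)).symm
    have := Nat.mul_le_mul_left e h2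
    omega
  obtain ⟨x, hxP, hx1⟩ : ∃ x ∈ P, x ≠ 1 := by
    haveI : Nontrivial P := Finite.one_lt_card_iff_nontrivial.1 (by rw [hP]; exact hp.one_lt)
    obtain ⟨⟨x, hx⟩, hx1⟩ := exists_ne (1 : P)
    exact ⟨x, hx, fun h => hx1 (Subtype.ext h)⟩
  have hεone : εX one = 1 := by
    have h := (hXv one honeX).2.2 x hxP hx1 1 C.one_mem (by rw [orderOf_one]; exact hp.not_dvd_one)
    rw [show ((one : IrrCharacter G) : G → ℂ) (x * 1) = 1 from rfl] at h
    exact_mod_cast h.symm
  have hdiv : ∀ θ : principalBlock M G, ¬ (p : ℤ) ∣ deg θ.1 →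
      charDegree ((θ : IrrCharacter G) : G → ℂ) ∣ c * e * (1 + k * p) := fun θ h => by
    have h1 : charDegree ((θ : IrrCharacter G) : G → ℂ) ∣ Nat.card G := charDegree_dvd_card θ.1
    rw [hG] at h1
    exact (Nat.Coprime.dvd_mul_left ((hp.coprime_iff_not_dvd.2 fun h' => h
      (Int.natCast_dvd_natCast.2 h')).symm)).1 h1
  have hXdeg : ∀ χ ∈ X, χ ≠ one → εX χ = 1 ∧ charDegree ((χ : IrrCharacter G) : G → ℂ) = 1 + k * p := by
    intro χ hχ hne
    obtain ⟨hs, hcong, -⟩ := hXv χ hχ
    refine arith he2 hc0 hk0 hsmall (hdiv χ fun h => ?_) ?_ hs hcong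
    · have h4 : (p : ℤ) ∣ εX χ := (Int.modEq_zero_iff_dvd).1 (hcong.symm.trans (Int.modEq_zero_iff_dvd.2 h))
      rcases hs with h5 | h5 <;> rw [h5] at h4
      · exact hp.not_dvd_one (by exact_mod_cast h4)
      · exact hp.not_dvd_one (by exact_mod_cast dvd_neg.1 h4)
    · have h0 := (irr_one χ.1).2
      by_contra hlt'
      exact hne (h1deg χ (by change (charDegree ((χ : IrrCharacter G) : G → ℂ) : ℤ) = 1; omega))
  obtain ⟨θ, hθ⟩ : ∃ θ, θ ∉ X := by
    by_contra h
    push Not at h
    have h2 : (Xᶜ).card = 0 := by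
      rw [Finset.card_eq_zero, Finset.eq_empty_iff_forall_notMem]
      exact fun a ha => Finset.mem_compl.1 ha (h a)
    rw [h2] at hY
    omega
  have hT : ε * deg θ.1 = 1 + ((e : ℤ) - 1) * (1 + k * p : ℕ) := by
    have h := hYrel θ hθ 1 (by rw [orderOf_one]; exact hp.not_dvd_one)
    have h' : ε * deg θ.1 = ∑ χ ∈ X, εX χ * deg χ.1 := by
      have h2 : ((ε * deg θ.1 : ℤ) : ℂ) = ((∑ χ ∈ X, εX χ * deg χ.1 : ℤ) : ℂ) := by
        push_cast
        rw [(irr_one θ.1).1] at h
        simp only [(irr_one _).1] at h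
        exact_mod_cast h
      exact_mod_cast h2
    rw [h', ← Finset.add_sum_erase X _ honeX, hεone,
      show deg one.1 = 1 by
        have h2 := (irr_one one.1).1
        rw [show ((one : IrrCharacter G) : G → ℂ) 1 = 1 from rfl] at h2
        change (charDegree ((one : IrrCharacter G) : G → ℂ) : ℤ) = 1
        exact_mod_cast h2.symm,
      Finset.sum_congr rfl fun χ hχ => show εX χ * deg χ.1 = ((1 + k * p : ℕ) : ℤ) by
        obtain ⟨h2, h3⟩ := hXdeg χ (Finset.mem_of_mem_erase hχ) (Finset.ne_of_mem_erase hχ)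
        change εX χ * (charDegree ((χ : IrrCharacter G) : G → ℂ) : ℤ) = _
        rw [h2, h3, one_mul],
      Finset.sum_const, Finset.card_erase_of_mem honeX, hX, nsmul_eq_mul, Nat.cast_sub (by omega)]
    push_cast
    ring
  set T := charDegree ((θ : IrrCharacter G) : G → ℂ) with hTdef
  have hT' : T = 1 + (e - 1) * (1 + k * p) := by
    have hTd : deg θ.1 = (T : ℤ) := rfl
    rw [hTd] at hT
    have hcast : ((1 + (e - 1) * (1 + k * p) : ℕ) : ℤ) = 1 + ((e : ℤ) - 1) * (1 + k * p : ℕ) := by
      push_cast [Nat.cast_sub (show 1 ≤ e by omega)]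
      ring
    rw [← hcast] at hT
    rcases hε with h | h <;> rw [h] at hT <;> omega
  have hnp : ¬ (p : ℤ) ∣ deg θ.1 := fun h => by
    have h2 : (p : ℤ) ∣ ε * (e : ℤ) :=
      Int.modEq_zero_iff_dvd.1 ((hYc θ hθ).symm.trans (Int.modEq_zero_iff_dvd.2 h))
    have h3 : (p : ℤ) ∣ (e : ℤ) := by
      rcases hε with h4 | h4 <;> rw [h4] at h2
      · simpa using h2
      · simpa using h2
    have := Nat.le_of_dvd (by omega) (Int.natCast_dvd_natCast.1 h3)
    omega
  have hcop : Nat.Coprime T (1 + k * p) := by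
    rw [hT', Nat.coprime_add_mul_right_left]
    exact Nat.coprime_one_left _
  have h5 := Nat.le_of_dvd (by positivity) (hcop.dvd_of_dvd_mul_right (hdiv θ hnp))
  have h6 : 1 + k * p ≤ (e - 1) * (1 + k * p) := Nat.le_mul_of_pos_left _ (by omega)
  have hce : c * e < 1 + k * p := by
    by_contra h
    have h7 := Nat.mul_le_mul_right (1 + k * p) (Nat.le_of_not_gt h)
    have h8 : p ≤ 1 + k * p := by nlinarith
    have h9 := Nat.mul_le_mul h8 h8
    rw [← pow_two] at h9
    omega
  omega

end CfsgLib.PClosedBound
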