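import Cfsg.Agent.PClosed.SimplePrimeBound
import Cfsg.Agent.Coprime.Sylow
import Cfsg.Prelude.Def_LocalStructure

/-!
# The least order of a group whose Sylow `p`-subgroups are not normal: the lower bound
-/

set_option autoImplicit false
set_option linter.style.haveILetI false

namespace CfsgLib.PClosedBound

universe u

variable {p : ℕ} [Fact p.Prime]

/-- A normal complement shows that a self-centralized Sylow normalizer is absurd in a simple group. -/
theorem normalizer_not_le_centralizer {G : Type u} [Group G] [Finite G] [IsSimpleGroup G]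
    (S : Sylow p G) (hnn : ¬ (S : Subgroup G).Normal) :
    ¬ Subgroup.normalizer ((S : Subgroup G) : Set G) ≤ Subgroup.centralizer ((S : Subgroup G) : Set G) := by
  intro hle
  have hcomp := MonoidHom.ker_transferSylow_isComplement' S hle
  rcases IsSimpleGroup.eq_bot_or_eq_top_of_normal (MonoidHom.transferSylow S hle).ker inferInstance with
    h | h
  · have h2 := hcomp.card_mul_card
    rw [h, Subgroup.card_bot, one_mul] at h2
    exact hnn (by rw [Subgroup.eq_top_of_card_eq _ h2]; infer_instance)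
  · have h2 := hcomp.disjoint
    rw [h] at h2
    exact hnn (by rw [show (S : Subgroup G) = ⊥ from top_disjoint.1 h2]; infer_instance)

/-- The simple case. -/
theorem le_card_simple {G : Type u} [Group G] [Finite G] [IsSimpleGroup G] (S : Sylow p G)
    (hnn : ¬ (S : Subgroup G).Normal) : p * (p ^ 2 - 1) / 2 ≤ Nat.card G := by
  have hp : p.Prime := Fact.out
  obtain ⟨a, ha⟩ := IsPGroup.iff_card.1 S.isPGroup'
  change Nat.card (S : Subgroup G) = p ^ a at ha
  have hSN : (S : Subgroup G) ≤ Subgroup.normalizer ((S : Subgroup G) : Set G) := Subgroup.le_normalizer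
  obtain ⟨k, hk⟩ := (Nat.modEq_iff_dvd' (Nat.card_pos : 0 < Nat.card (Sylow p G))).1
    (card_sylow_modEq_one p G).symm
  have hk1 : p + 1 ≤ Nat.card (Sylow p G) := by
    rcases Nat.eq_zero_or_pos k with rfl | h
    · refine absurd ?_ hnn
      haveI : Subsingleton (Sylow p G) := Finite.card_le_one_iff_subsingleton.1 (by omega)
      exact Sylow.normal_of_subsingleton S
    · have := Nat.le_mul_of_pos_right p h
      have := (Nat.card_pos : 0 < Nat.card (Sylow p G))
      omega
  have hG : Nat.card G = Nat.card (Subgroup.normalizer ((S : Subgroup G) : Set G)) * Nat.card (Sylow p G) := by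
    rw [Sylow.card_eq_index_normalizer S]
    exact (Subgroup.card_mul_index _).symm
  rcases Nat.lt_or_ge a 2 with ha2 | ha2
  · interval_cases a
    · exact absurd (by rw [show (S : Subgroup G) = ⊥ from Subgroup.card_eq_one.1 (by rw [ha, pow_zero])]; infer_instance) hnn
    · exact le_card_of_isSimpleGroup S (by rw [pow_one] at ha; exact ha) hnn
  have hN : 2 * p ^ 2 ≤ Nat.card (Subgroup.normalizer ((S : Subgroup G) : Set G)) := by
    obtain ⟨j, hj⟩ := Subgroup.card_dvd_of_le hSN
    rw [ha] at hj
    have hjpos : 0 < j := Nat.pos_of_ne_zero fun h => by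
      rw [h, mul_zero] at hj; exact Nat.card_pos.ne' hj
    rw [hj]
    rcases Nat.lt_or_ge a 3 with h3 | h3
    · interval_cases a
      have hj2 : 2 ≤ j := by
        by_contra hlt
        have hj1 : j = 1 := by omega
        refine normalizer_not_le_centralizer S hnn ?_
        have heq : (S : Subgroup G) = Subgroup.normalizer ((S : Subgroup G) : Set G) :=
          Subgroup.eq_of_le_of_card_ge hSN (by rw [hj, hj1, mul_one, ha])
        rw [← heq]
        intro x hx
        exact Subgroup.mem_centralizer_iff.2 fun y hy =>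
          congrArg Subtype.val ((IsPGroup.isMulCommutative_of_card_eq_prime_sq ha).is_comm.comm ⟨y, hy⟩ ⟨x, hx⟩)
      calc 2 * p ^ 2 ≤ j * p ^ 2 := Nat.mul_le_mul_right _ hj2
        _ = p ^ 2 * j := mul_comm _ _
    · calc 2 * p ^ 2 ≤ p * p ^ 2 := Nat.mul_le_mul_right _ hp.two_le
        _ = p ^ 3 := by ring
        _ ≤ p ^ a := Nat.pow_le_pow_right hp.pos h3
        _ ≤ p ^ a * j := Nat.le_mul_of_pos_right _ hjpos
  rw [hG]
  refine (Nat.div_le_self _ 2).trans ?_
  calc p * (p ^ 2 - 1) ≤ p * p ^ 2 := Nat.mul_le_mul_left p (Nat.sub_le _ _)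
    _ ≤ (2 * p ^ 2) * (p + 1) := by nlinarith
    _ ≤ _ := Nat.mul_le_mul hN hk1

/-- A `p`-group acting nontrivially on a `p'`-group forces a prime power congruent to one. -/
theorem exists_primePow_le {H : Type u} [Group H] [Finite H] {m : ℕ}
    (hleast : ∀ k : ℕ, IsPrimePow k → k % p = 1 → m ≤ k) (N : Subgroup H) [N.Normal]
    (hN : ¬ p ∣ Nat.card N) {P : Subgroup H} (hP : IsPGroup p P) {x : H} (hx : x ∈ P)
    (hnc : ∃ n ∈ N, x * n ≠ n * x) : m ≤ Nat.card N := by
  classical
  have hp : p.Prime := Fact.out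
  set A := Subgroup.zpowers x with hA
  have hAp : IsPGroup p A := hP.to_le (Subgroup.zpowers_le.2 hx)
  letI : MulDistribMulAction A N := MulDistribMulAction.compHom N ((MulAut.conjNormal (H := N)).comp A.subtype)
  have hsmul : ∀ (a : A) (n : N), ((a • n : N) : H) = (a : H) * n * (a : H)⁻¹ := fun a n =>
    MulAut.conjNormal_apply (a : H) n
  have hcop : (Nat.card A).Coprime (Nat.card N) := by
    obtain ⟨j, hj⟩ := IsPGroup.iff_card.1 hAp
    rw [hj]
    exact Nat.Coprime.pow_left _ (hp.coprime_iff_not_dvd.2 hN)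
  let C : Subgroup N :=
    { carrier := {n | ∀ a : A, a • n = n}
      one_mem' := fun a => smul_one a
      mul_mem' := fun {u v} hu hv a => by rw [smul_mul', hu a, hv a]
      inv_mem' := fun {u} hu a => by rw [smul_inv', hu a] }
  have hC : C.index ≠ 1 := by
    intro h
    obtain ⟨n, hn, hne⟩ := hnc
    have h1 : (⟨n, hn⟩ : N) ∈ C := (Subgroup.index_eq_one.1 h) ▸ Subgroup.mem_top _
    have h2 := congrArg Subtype.val (h1 ⟨x, Subgroup.mem_zpowers x⟩)
    rw [hsmul] at h2
    exact hne (mul_inv_eq_iff_eq_mul.1 h2)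
  obtain ⟨q, hq, hqd⟩ := Nat.exists_prime_and_dvd hC
  haveI := Fact.mk hq
  haveI : IsCyclic A := Subgroup.isCyclic_zpowers x
  haveI : Group.IsSolvable A := by
    letI := IsCyclic.commGroup (α := A)
    infer_instance
  obtain ⟨Q, hQ⟩ := CfsgLib.Coprime.exists_invariant_sylow (A := A) (G := N) hcop q
  letI : MulAction A (Q : Subgroup N) :=
    { smul := fun a v => ⟨a • (v : N), hQ a v v.2⟩
      one_smul := fun v => Subtype.ext (one_smul A (v : N))
      mul_smul := fun a b v => Subtype.ext (mul_smul a b (v : N)) }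
  have hmod := hAp.card_modEq_card_fixedPoints (Q : Subgroup N)
  have hfix : Nat.card (MulAction.fixedPoints A (Q : Subgroup N)) = Nat.card ((Q : Subgroup N) ⊓ C : Subgroup N) :=
    Nat.card_congr ⟨fun v => ⟨(v : (Q : Subgroup N)), (v : (Q : Subgroup N)).2, fun a =>
        congrArg Subtype.val (v.2 a)⟩,
      fun v => ⟨⟨(v : N), v.2.1⟩, fun a => Subtype.ext (v.2.2 a)⟩, fun v => rfl, fun v => rfl⟩
  rw [hfix] at hmod
  obtain ⟨v, hv⟩ := IsPGroup.iff_card.1 Q.isPGroup'
  change Nat.card (Q : Subgroup N) = q ^ v at hv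
  obtain ⟨w, hwv, hw⟩ := (Nat.dvd_prime_pow hq).1 (hv ▸ Subgroup.card_dvd_of_le (inf_le_left : (Q : Subgroup N) ⊓ C ≤ _))
  have hne : (Q : Subgroup N) ⊓ C ≠ (Q : Subgroup N) := fun h => Q.not_dvd_index
    (hqd.trans (Subgroup.index_dvd_of_le (inf_eq_left.1 h)))
  have hlt : w < v := lt_of_le_of_ne hwv fun h => hne (Subgroup.eq_of_le_of_card_ge inf_le_left (by rw [hw, hv, h]))
  rw [hv, hw, ← Nat.sub_add_cancel hwv, pow_add] at hmod
  have hqp : ¬ p ∣ q := fun h => by
    rw [Nat.prime_dvd_prime_iff_eq hp hq] at h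
    exact hN (h ▸ (hqd.trans ((C.index_dvd_card))))
  have h1 : q ^ (v - w) ≡ 1 [MOD p] := by
    have h2 : q ^ (v - w) * q ^ w ≡ 1 * q ^ w [MOD p] := by rw [one_mul]; exact hmod
    exact Nat.ModEq.cancel_right_of_coprime ((hp.coprime_iff_not_dvd.2 hqp).pow_right w) h2
  have h3 := hleast (q ^ (v - w)) ((hq.isPrimePow).pow (by omega))
    (by rw [h1, Nat.mod_eq_of_lt hp.one_lt])
  refine h3.trans ((Nat.pow_le_pow_right hq.pos (Nat.sub_le v w)).trans ?_)
  rw [← hv]
  exact Subgroup.card_le_card_group _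

/-- A normal Sylow subgroup of a normal subgroup is normal. -/
theorem exists_normal_pSubgroup {H : Type u} [Group H] [Finite H] (L : Subgroup H) [L.Normal]
    (hL : Cfsg.IsPClosed p L) (hd : p ∣ Nat.card L) :
    ∃ R : Subgroup H, R.Normal ∧ IsPGroup p R ∧ R ≠ ⊥ := by
  obtain ⟨T⟩ : Nonempty (Sylow p L) := inferInstance
  haveI : (T : Subgroup L).Normal := hL T
  haveI : (T : Subgroup L).Characteristic := T.characteristic_of_normal (hL T)
  refine ⟨(T : Subgroup L).map L.subtype, inferInstance, T.isPGroup'.map _, fun h => ?_⟩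
  rw [Subgroup.map_eq_bot_iff_of_injective _ L.subtype_injective] at h
  exact T.ne_bot_of_dvd_card hd h

/-- **The lower bound.** -/
theorem le_card_of_not_pClosed {m : ℕ} (hm : IsPrimePow m) (hm1 : m % p = 1)
    (hleast : ∀ k : ℕ, IsPrimePow k → k % p = 1 → m ≤ k) :
    ∀ (n : ℕ) (H : Type u) [Group H] [Finite H], Nat.card H = n → ¬ Cfsg.IsPClosed p H →
      min (p * m) (p * (p ^ 2 - 1) / 2) ≤ n := by
  intro n
  induction n using Nat.strong_induction_on with
  | _ n ih =>
    intro H _ _ hn hH
    classical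
    have hp : p.Prime := Fact.out
    obtain ⟨P, hP⟩ := not_forall.1 hH
    have hquot : ∀ (R : Subgroup H) [R.Normal], R ≠ ⊥ → ¬ Cfsg.IsPClosed p (H ⧸ R) →
        min (p * m) (p * (p ^ 2 - 1) / 2) ≤ n := fun R _ hR h => by
      have hlt : Nat.card (H ⧸ R) < n := by
        rw [← hn, ← Subgroup.index_eq_card, ← R.card_mul_index]
        exact lt_mul_of_one_lt_left (Nat.pos_of_ne_zero Subgroup.index_ne_zero_of_finite)
          ((Subgroup.one_lt_card_iff_ne_bot R).2 hR)
      exact (ih _ hlt (H ⧸ R) rfl h).trans hlt.le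
    have hsub : ∀ L : Subgroup H, L ≠ ⊤ → ¬ Cfsg.IsPClosed p L →
        min (p * m) (p * (p ^ 2 - 1) / 2) ≤ n := fun L hL h => by
      have hlt : Nat.card L < n := by
        rw [← hn]
        exact lt_of_le_of_ne (Subgroup.card_le_card_group L) fun h' => hL (Subgroup.eq_top_of_card_eq L h')
      exact (ih _ hlt L rfl h).trans hlt.le
    -- normal subgroups of `p`-power order
    by_cases hR : ∃ R : Subgroup H, R.Normal ∧ IsPGroup p R ∧ R ≠ ⊥
    · obtain ⟨R, hRn, hRp, hR1⟩ := hR
      haveI := hRn
      refine hquot R hR1 fun h => hP ?_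
      have hRP : R ≤ (P : Subgroup H) := by
        obtain ⟨T, hT⟩ := hRp.exists_le_sylow
        obtain ⟨g, rfl⟩ := MulAction.exists_smul_eq H T P
        intro r hr
        rw [Sylow.coe_subgroup_smul, Subgroup.mem_pointwise_smul_iff_inv_smul_mem]
        refine hT ?_
        have := hRn.conj_mem r hr g⁻¹
        simpa [MulAut.smul_def] using this
      have h1 := h (P.mapSurjective (QuotientGroup.mk'_surjective R))
      rw [Sylow.coe_mapSurjective] at h1
      have h2 := h1.comap (QuotientGroup.mk' R)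
      rwa [Subgroup.comap_map_eq, QuotientGroup.ker_mk', sup_eq_left.2 hRP] at h2
    haveI hnt : Nontrivial H := by
      by_contra h
      rw [not_nontrivial_iff_subsingleton] at h
      exact hP (by rw [show (P : Subgroup H) = ⊥ from Subsingleton.elim _ _]; infer_instance)
    by_cases hsimple : ∀ N : Subgroup H, N.Normal → N = ⊥ ∨ N = ⊤
    · haveI : IsSimpleGroup H := ⟨hsimple⟩
      rw [← hn]
      exact (min_le_right _ _).trans (le_card_simple P hP)
    push Not at hsimple
    obtain ⟨N, hNn, hN1, hN2⟩ := hsimple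
    haveI := hNn
    by_cases hNc : ¬ Cfsg.IsPClosed p N
    · exact hsub N hN2 hNc
    push Not at hNc
    have hNp : ¬ p ∣ Nat.card N := fun h => hR (exists_normal_pSubgroup N hNc h)
    by_cases hQc : ¬ Cfsg.IsPClosed p (H ⧸ N)
    · exact hquot N hN1 hQc
    push Not at hQc
    set L := (P : Subgroup H) ⊔ N with hLdef
    haveI hLn : L.Normal := by
      have h1 := hQc (P.mapSurjective (QuotientGroup.mk'_surjective N))
      rw [Sylow.coe_mapSurjective] at h1
      have h2 := h1.comap (QuotientGroup.mk' N)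
      rwa [Subgroup.comap_map_eq, QuotientGroup.ker_mk'] at h2
    have hP1 : (P : Subgroup H) ≠ ⊥ := fun h => hP (by rw [h]; infer_instance)
    have hpP : p ∣ Nat.card (P : Subgroup H) := by
      haveI : Nontrivial (P : Subgroup H) := (Subgroup.nontrivial_iff_ne_bot _).2 hP1
      obtain ⟨j, hj, hj'⟩ := P.isPGroup'.nontrivial_iff_card.1 inferInstance
      rw [hj']; exact dvd_pow_self p hj.ne'
    by_cases hLtop : L ≠ ⊤
    · refine hsub L hLtop fun hc => hR (exists_normal_pSubgroup L hc ?_)
      exact hpP.trans (Subgroup.card_dvd_of_le le_sup_left)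
    push Not at hLtop
    obtain ⟨x, hx, hxN⟩ : ∃ x ∈ (P : Subgroup H), ∃ y ∈ N, x * y ≠ y * x := by
      by_contra h
      push Not at h
      refine hP ⟨fun y hy g => ?_⟩
      have hle : (P : Subgroup H) ⊔ N ≤ Subgroup.normalizer ((P : Subgroup H) : Set H) :=
        sup_le Subgroup.le_normalizer fun z hz => Subgroup.mem_normalizer_iff.2 fun w => by
          constructor
          · intro hw
            rw [← h w hw z hz, mul_inv_cancel_right]; exact hw
          · intro hw
            have := h _ hw z hz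
            have h' : w = z * w * z⁻¹ := by
              calc w = z⁻¹ * (z * w * z⁻¹ * z) := by group
                _ = z⁻¹ * (z * (z * w * z⁻¹)) := by rw [this]
                _ = z * w * z⁻¹ := by group
            rw [h']; exact hw
      rw [← hLdef, hLtop] at hle
      exact (Subgroup.mem_normalizer_iff.1 (hle (Subgroup.mem_top g)) y).1 hy
    have hmN := exists_primePow_le hleast N hNp P.isPGroup' hx hxN
    refine (min_le_left _ _).trans ?_
    rw [← hn]
    have hpm : p * m ≤ Nat.card (P : Subgroup H) * Nat.card N :=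
      Nat.mul_le_mul (Nat.le_of_dvd Nat.card_pos hpP) hmN
    refine hpm.trans (Nat.le_of_dvd Nat.card_pos (Nat.Coprime.mul_dvd_of_dvd_of_dvd ?_
      (Subgroup.card_subgroup_dvd_card _) (Subgroup.card_subgroup_dvd_card _)))
    obtain ⟨j, hj⟩ := IsPGroup.iff_card.1 P.isPGroup'
    change Nat.card (P : Subgroup H) = p ^ j at hj
    rw [hj]
    exact Nat.Coprime.pow_left _ (hp.coprime_iff_not_dvd.2 hNp)

end CfsgLib.PClosedBound
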