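import Cfsg.Prelude.Def_LocalStructure
import Cfsg.Agent.Classical.SmallPSL
import Mathlib.FieldTheory.Finite.GaloisField
import Mathlib.GroupTheory.SemidirectProduct
import Mathlib.GroupTheory.Sylow

/-!
# Small groups whose Sylow `p`-subgroups are not normal
-/

set_option autoImplicit false
set_option linter.style.haveILetI false

namespace CfsgLib.PClosedBound

variable {p : ℕ} [Fact p.Prime]

/-- Two subgroups of order `p` in a group with a normal Sylow subgroup of order `p` agree. -/
theorem mem_zpowers_of_pClosed {H : Type*} [Group H] [Finite H] (hH : Cfsg.IsPClosed p H)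
    (hsq : ¬ p ^ 2 ∣ Nat.card H) {x y : H} (hx : orderOf x = p) (hy : orderOf y = p) :
    y ∈ Subgroup.zpowers x := by
  have hp : p.Prime := Fact.out
  obtain ⟨S⟩ : Nonempty (Sylow p H) := inferInstance
  haveI : Subsingleton (Sylow p H) := (Sylow.unique_of_normal S (hH S)).instSubsingleton
  have hmem : ∀ z : H, orderOf z = p → z ∈ (S : Subgroup H) := fun z hz => by
    obtain ⟨T, hT⟩ := (IsPGroup.of_card (G := Subgroup.zpowers z) (n := 1) (p := p)
      (by rw [Nat.card_zpowers, hz, pow_one])).exists_le_sylow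
    rw [Subsingleton.elim S T]
    exact hT (Subgroup.mem_zpowers z)
  have hle : Subgroup.zpowers x ≤ (S : Subgroup H) := Subgroup.zpowers_le.2 (hmem x hx)
  obtain ⟨a, ha⟩ := IsPGroup.iff_card.1 S.isPGroup'
  change Nat.card (S : Subgroup H) = p ^ a at ha
  have ha1 : a ≤ 1 := by
    by_contra h
    exact hsq ((pow_dvd_pow p (by omega : 2 ≤ a)).trans (ha ▸ Subgroup.card_subgroup_dvd_card _))
  have h2 : Subgroup.zpowers x = (S : Subgroup H) := Subgroup.eq_of_le_of_card_ge hle (by
    rw [Nat.card_zpowers, hx, ha]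
    calc p ^ a ≤ p ^ 1 := Nat.pow_le_pow_right hp.pos ha1
      _ = p := pow_one p)
  rw [h2]
  exact hmem y hy

/-- The affine group witness. -/
theorem exists_affine {m : ℕ} (hm : IsPrimePow m) (hm1 : m % p = 1) :
    ∃ (H : Type) (_ : Group H) (_ : Finite H), Nat.card H = p * m ∧ ¬ Cfsg.IsPClosed p H := by
  classical
  have hp : p.Prime := Fact.out
  obtain ⟨l, a, hl, ha, rfl⟩ := (isPrimePow_nat_iff m).1 hm
  haveI := Fact.mk hl
  let F := GaloisField l a
  haveI : Fintype F := Fintype.ofFinite F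
  have hF : Nat.card F = l ^ a := GaloisField.card l a ha.ne'
  have hdvd : p ∣ Nat.card Fˣ := by
    rw [Nat.card_units, hF]
    exact (Nat.modEq_iff_dvd' (Nat.one_le_pow _ _ hl.pos)).1 (by rw [Nat.ModEq, hm1, Nat.mod_eq_of_lt hp.one_lt])
  obtain ⟨u, hu⟩ := exists_prime_orderOf_dvd_card' p hdvd
  let φ : Subgroup.zpowers u →* MulAut (Multiplicative F) :=
    { toFun := fun v =>
        { toFun := fun x => Multiplicative.ofAdd ((((v : Fˣ) : F)) * x.toAdd)
          invFun := fun x => Multiplicative.ofAdd (((((v : Fˣ))⁻¹ : Fˣ) : F) * x.toAdd)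
          left_inv := fun x => by simp
          right_inv := fun x => by simp
          map_mul' := fun x y => by simp [mul_add] }
      map_one' := by ext x; simp
      map_mul' := fun v w => by ext x; simp [mul_assoc] }
  haveI : Finite (Multiplicative F ⋊[φ] Subgroup.zpowers u) :=
    Finite.of_equiv _ SemidirectProduct.equivProd.symm
  have hcard : Nat.card (Multiplicative F ⋊[φ] Subgroup.zpowers u) = p * l ^ a := by
    rw [Nat.card_congr SemidirectProduct.equivProd, Nat.card_prod, Nat.card_zpowers, hu,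
      Nat.card_congr (Multiplicative.toAdd : Multiplicative F ≃ F), hF, mul_comm]
  refine ⟨_, inferInstance, inferInstance, hcard, fun hH => ?_⟩
  let g : Subgroup.zpowers u := ⟨u, Subgroup.mem_zpowers u⟩
  let b : Multiplicative F ⋊[φ] Subgroup.zpowers u := SemidirectProduct.inl (Multiplicative.ofAdd (1 : F))
  let x : Multiplicative F ⋊[φ] Subgroup.zpowers u := SemidirectProduct.inr g
  have hx : orderOf x = p := by
    rw [orderOf_injective _ SemidirectProduct.inr_injective, ← Subgroup.orderOf_coe, hu]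
  have hy : orderOf (b * x * b⁻¹) = p := by
    rw [show b * x * b⁻¹ = MulAut.conj b x from rfl, MulEquiv.orderOf_eq, hx]
  have hsq : ¬ p ^ 2 ∣ Nat.card (Multiplicative F ⋊[φ] Subgroup.zpowers u) := by
    rw [hcard, pow_two]
    intro h
    have h1 := Nat.dvd_of_mul_dvd_mul_left hp.pos h
    rw [Nat.dvd_iff_mod_eq_zero, hm1] at h1
    exact one_ne_zero h1
  obtain ⟨i, hi⟩ := Subgroup.mem_zpowers_iff.1 (mem_zpowers_of_pClosed hH hsq hx hy)
  have h1 := congrArg SemidirectProduct.left hi
  rw [show x ^ i = SemidirectProduct.inr (g ^ i) from (map_zpow _ g i).symm, SemidirectProduct.left_inr] at h1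
  simp [b, x, g, φ] at h1
  have h2 := congrArg Multiplicative.toAdd h1
  simp at h2
  have h3 : u = 1 := Units.ext (by rw [Units.val_one]; linear_combination h2)
  rw [h3, orderOf_one] at hu
  exact hp.ne_one hu.symm

/-- The two-dimensional projective special linear witness. -/
theorem exists_psl (hp2 : p ≠ 2) :
    ∃ (H : Type) (_ : Group H) (_ : Finite H),
      Nat.card H = p * (p ^ 2 - 1) / 2 ∧ ¬ Cfsg.IsPClosed p H := by
  classical
  have hp : p.Prime := Fact.out
  let H := Matrix.ProjectiveSpecialLinearGroup (Fin 2) (ZMod p)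
  have hc := CfsgLib.Linear.Small.card_psl_two (F := ZMod p) (ZMod.card p)
  have hgcd : Nat.gcd 2 (p - 1) = 2 := by
    have hodd := hp.odd_of_ne_two hp2
    exact Nat.gcd_eq_left (by obtain ⟨j, hj⟩ := hodd; exact ⟨j, by omega⟩)
  rw [hgcd] at hc
  have h2 : 2 * Nat.card H = p * (p ^ 2 - 1) := by
    have hp1 : 0 < p - 1 := by have := hp.two_le; omega
    refine Nat.eq_of_mul_eq_mul_left hp1 ?_
    rw [mul_left_comm, hc, pow_two, show p * p - p = p * (p - 1) by rw [Nat.mul_sub_one]]
    ring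
  have hcard : Nat.card H = p * (p ^ 2 - 1) / 2 := by rw [← h2]; omega
  refine ⟨H, inferInstance, inferInstance, hcard, fun hH => ?_⟩
  have hsq : ¬ p ^ 2 ∣ Nat.card H := by
    intro h
    have h3 : p * p ∣ p * (p ^ 2 - 1) := by rw [← h2, ← pow_two]; exact h.mul_left 2
    have h4 := Nat.dvd_of_mul_dvd_mul_left hp.pos h3
    have h5 : p ∣ p ^ 2 := dvd_pow_self p two_ne_zero
    have h6 : p ∣ p ^ 2 - (p ^ 2 - 1) := Nat.dvd_sub h5 h4
    rw [Nat.sub_sub_self (Nat.one_le_pow _ _ hp.pos)] at h6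
    exact hp.not_dvd_one h6
  let U : Matrix.SpecialLinearGroup (Fin 2) (ZMod p) := ⟨!![1, 1; 0, 1], by simp⟩
  let L : Matrix.SpecialLinearGroup (Fin 2) (ZMod p) := ⟨!![1, 0; 1, 1], by simp⟩
  have hUpow : ∀ i : ℕ, ((U ^ i : Matrix.SpecialLinearGroup (Fin 2) (ZMod p)) : Matrix (Fin 2) (Fin 2) (ZMod p)) =
      !![1, (i : ZMod p); 0, 1] := by
    intro i
    induction i with
    | zero => simp [Matrix.one_fin_two]
    | succ i ih =>
      rw [pow_succ, Matrix.SpecialLinearGroup.coe_mul, ih]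
      simp [U, add_comm]
  have hLpow : ∀ i : ℕ, ((L ^ i : Matrix.SpecialLinearGroup (Fin 2) (ZMod p)) : Matrix (Fin 2) (Fin 2) (ZMod p)) =
      !![1, 0; (i : ZMod p), 1] := by
    intro i
    induction i with
    | zero => simp [Matrix.one_fin_two]
    | succ i ih =>
      rw [pow_succ, Matrix.SpecialLinearGroup.coe_mul, ih]
      simp [L, add_comm]
  let π := QuotientGroup.mk' (Subgroup.center (Matrix.SpecialLinearGroup (Fin 2) (ZMod p)))
  have hnc : ∀ A : Matrix.SpecialLinearGroup (Fin 2) (ZMod p),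
      (A : Matrix (Fin 2) (Fin 2) (ZMod p)) 0 1 ≠ 0 ∨ (A : Matrix (Fin 2) (Fin 2) (ZMod p)) 1 0 ≠ 0 →
      π A ≠ 1 := by
    intro A hA h
    have hs := Matrix.SpecialLinearGroup.scalar_eq_self_of_mem_center ((QuotientGroup.eq_one_iff A).1 h) 0
    rw [← hs] at hA
    simp at hA
  have ho : ∀ A : Matrix.SpecialLinearGroup (Fin 2) (ZMod p), A ^ p = 1 → π A ≠ 1 → orderOf (π A) = p :=
    fun A hA h => orderOf_eq_prime (by rw [← map_pow, hA, map_one]) h
  have hU : U ^ p = 1 := Subtype.ext (by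
    rw [hUpow]; simp [Matrix.one_fin_two])
  have hL : L ^ p = 1 := Subtype.ext (by
    rw [hLpow]; simp [Matrix.one_fin_two])
  have hoU := ho U hU (hnc U (Or.inl (by simp [U])))
  have hmem := mem_zpowers_of_pClosed hH hsq hoU (ho L hL (hnc L (Or.inr (by simp [L]))))
  rw [← mem_powers_iff_mem_zpowers] at hmem
  obtain ⟨i, hi⟩ := hmem
  have h7 : π (U ^ i * L⁻¹) = 1 := by
    rw [map_mul, map_pow, map_inv, mul_inv_eq_one]; exact hi
  refine hnc (U ^ i * L⁻¹) (Or.inr ?_) h7
  rw [Matrix.SpecialLinearGroup.coe_mul, hUpow, Matrix.SpecialLinearGroup.coe_inv]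
  simp [L, Matrix.adjugate_fin_two]

end CfsgLib.PClosedBound
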